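import Cfsg.Agent.H0.EMcLZ.D
set_option maxRecDepth 100000
set_option Elab.async false
set_option linter.unusedSectionVars false
namespace H0.EMcLZ
open H0 BN 
theorem defs_ok : DefsOK R.p defs 13 := defsOK_of_chk c51
universe u
variable {G : Type u} [Group G] [Finite G] (m0 : Model G) (h0 : m0.R = H6M.MMcL.R)
noncomputable def m : Model G := m0.ext (lg := nat_lit 9) (N := nat_lit 512) (l := H6M.MMcL.nl) h0 nl nl_ok 13 rfl defs defs_ok (by decide +kernel)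
theorem mR : (m m0 h0).R = R := rfl
variable (hb : m0.pst [107, 3, 2, 1, 0] = ⊥) (hc : Nat.card G = 898128000)
include h0 hb hc
theorem base : (m m0 h0).pst [107, 3, 2, 1, 0] = ⊥ := hb
omit hb hc in
theorem geq {x : ℕ} (h : x < 13) : (m m0 h0).g x = m0.g x := m0.ext_g h0 _ _ _ _ _ _ _ h
omit hb hc in
theorem sch_ok : (m m0 h0).ChainOK sch [] := ((m m0 h0).chain_cons [0, 1, 2, 3, 5, 4, 0] (Model.via _ (mR m0 h0) (fun R => Model.fixP R [] [[13], [14], [15], [16], [17], [18]]) c2) (Model.via _ (mR m0 h0) (fun R => Model.growP R [[13], [14], [15], [16], [17], [18]] [0, 1, 2, 3, 5, 4, 0] 1 64) c3) ((m m0 h0).chain_cons [0] (Model.via _ (mR m0 h0) (fun R => Model.fixP R [1] [[14, 15, 16, 18, 19]]) c0) (Model.via _ (mR m0 h0) (fun R => Model.growP R [[14, 15, 16, 18, 19]] [0] 2 2) c1) ((m m0 h0).chain_nil _)))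
theorem sE : ∀ e ∈ pcE 2 [13, 14, 15, 16, 17, 18, 19] sW, ev (m m0 h0).g e.1 = ev (m m0 h0).g e.2 := (all_take_done (all_take_step (all_take_zero _ (pcE 2 [13, 14, 15, 16, 17, 18, 19] sW)) ((m m0 h0).pairs_of (base m0 h0 hb hc) (Model.via _ (mR m0 h0) (fun R => pairsB R [107, 3, 2, 1, 0] (((pcE 2 [13, 14, 15, 16, 17, 18, 19] sW).drop 0).take 28)) c4))) (by decide +kernel))
omit hb hc in
theorem slow : 2 ^ [13, 14, 15, 16, 17, 18, 19].length ≤ Nat.card (gl (m m0 h0).g [13, 14, 15, 16, 17, 18, 19]) :=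
  (by decide +kernel : _ ≤ Model.cprod sch).trans ((m m0 h0).chain_card (sch_ok m0 h0) (gen_le fun w hw => mem_gl _ (List.all_eq_true.1 (by decide +kernel : (Model.cgens sch).all (·.all [13, 14, 15, 16, 17, 18, 19].contains) = true) w hw)))
theorem scls : ∀ x : G, x ^ 2 ^ 1 = 1 → x ≠ 1 → ∃ r ∈ sRs, IsConj (ev (m m0 h0).g r) x :=
  cls (by decide) (sE m0 h0 hb hc) (slow m0 h0) hc ((m m0 h0).need_of (Model.via _ (mR m0 h0) (fun R => needB R [0, 1, 2, 3, 107] 2 (2 ^ 1) [13, 14, 15, 16, 17, 18, 19] sWs []) c5)) (all_take_done (all_take_step (all_take_zero _ (clsE sWs sU sRs)) ((m m0 h0).pairs_of (base m0 h0 hb hc) (Model.via _ (mR m0 h0) (fun R => pairsB R [107, 3, 2, 1, 0] (((clsE sWs sU sRs).drop 0).take 36)) c6))) (by decide +kernel)) (by decide +kernel)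
theorem sone : ∀ x y : G, orderOf x = 2 → orderOf y = 2 → IsConj x y := fun _ _ =>
  one_cls (a := ev (m m0 h0).g [19]) (by decide) fun x a b => by simpa [sRs] using scls m0 h0 hb hc x a b
omit hb hc in
theorem zch_ok : (m m0 h0).ChainOK zch [] := ((m m0 h0).chain_cons [0, 1, 0, 1, 0, 1, 0, 1, 0, 1, 0, 1, 0, 0, 0] (Model.via _ (mR m0 h0) (fun R => Model.fixP R [] [[31], [32]]) c17) (Model.via _ (mR m0 h0) (fun R => Model.growP R [[31], [32]] [0, 1, 0, 1, 0, 1, 0, 1, 0, 1, 0, 1, 0, 0, 0] 219 275) c18) ((m m0 h0).chain_cons [0, 1, 0, 1, 0, 1, 0, 1, 0, 1, 0, 0, 0, 0] (Model.via _ (mR m0 h0) (fun R => Model.fixP R [219] [[33], [34]]) c15) (Model.via _ (mR m0 h0) (fun R => Model.growP R [[33], [34]] [0, 1, 0, 1, 0, 1, 0, 1, 0, 1, 0, 0, 0, 0] 118 162) c16) ((m m0 h0).chain_cons [0, 1, 0, 1, 0, 1, 0, 0, 1, 0, 0] (Model.via _ (mR m0 h0) (fun R => Model.fixP R [118, 219] [[35], [36]]) c13) (Model.via _ (mR m0 h0)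 (fun R => Model.growP R [[35], [36]] [0, 1, 0, 1, 0, 1, 0, 0, 1, 0, 0] 209 56) c14) ((m m0 h0).chain_cons [0, 0, 1, 0, 1, 0, 0, 1, 0, 0, 0] (Model.via _ (mR m0 h0) (fun R => Model.fixP R [209, 118, 219] [[37], [38]]) c11) (Model.via _ (mR m0 h0) (fun R => Model.growP R [[37], [38]] [0, 0, 1, 0, 1, 0, 0, 1, 0, 0, 0] 206 30) c12) ((m m0 h0).chain_cons [1, 0, 0] (Model.via _ (mR m0 h0) (fun R => Model.fixP R [206, 209, 118, 219] [[39], [40]]) c9) (Model.via _ (mR m0 h0) (fun R => Model.growP R [[39], [40]] [1, 0, 0] 190 4) c10) ((m m0 h0).chain_cons [0, 0] (Model.via _ (mR m0 h0) (fun R => Model.fixP R [190, 206, 209, 118, 219] [[41]]) c7) (Model.via _ (mR m0 h0) (fun R => Model.growP R [[41]] [0, 0] 161 3) c8) ((m m0 h0).chain_nil _)))))))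
theorem ztop : gen (m m0 h0).g (Model.cgens zch) = ⊤ := (m m0 h0).chain_top (zch_ok m0 h0) (hc.trans (by decide +kernel))
theorem zbdd : (m m0 h0).Bdd := (m m0 h0).bdd_of_top (ztop m0 h0 hb hc)
theorem zot : (m m0 h0).OTOK zOT := ((m m0 h0).otok_cons (zch_ok m0 h0) (hc.trans (by decide +kernel)) 4 rfl (Model.via _ (mR m0 h0) (fun R => Model.invB R (Model.cgens (zch.drop 4)) zO0) c42) ((m m0 h0).otok_cons (zch_ok m0 h0) (hc.trans (by decide +kernel)) 3 rfl (Model.via _ (mR m0 h0) (fun R => Model.invB R (Model.cgens (zch.drop 3)) zO1) c41) ((m m0 h0).otok_cons (zch_ok m0 h0) (hc.trans (by decide +kernel)) 2 rfl (Model.via _ (mR m0 h0) (fun R => Model.invB R (Model.cgens (zch.drop 2)) zO2) c40) ((m m0 h0).otok_cons (zch_ok m0 h0) (hc.trans (by decide +kernel)) 1 rfl (Model.via _ (mR m0 h0) (fun R => Model.invB R (Model.cgens (zch.drop 1)) zO3) c39) ((m m0 h0).otok_cons (zch_ok m0 h0) (hc.trans (by decide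 +kernel)) 0 rfl (Model.via _ (mR m0 h0) (fun R => Model.invB R (Model.cgens (zch.drop 0)) zO4) c38) (m m0 h0).otok_nil)))))
theorem zcm : ∀ w ∈ zCg, (m m0 h0).Cm [[30]] (ev (m m0 h0).g w) := (m m0 h0).cm_of_pairs (all_take_done (all_take_step (all_take_zero _ (zCg.flatMap fun w => [[30]].map fun y => (w ++ y, y ++ w))) ((m m0 h0).pairs_of (base m0 h0 hb hc) (Model.via _ (mR m0 h0) (fun R => pairsB R [107, 3, 2, 1, 0] (((zCg.flatMap fun w => [[30]].map fun y => (w ++ y, y ++ w)).drop 0).take 14)) c43))) (by decide +kernel))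
theorem zn5 : (m m0 h0).Sol [[30]] zCg [161, 190, 206, 209, 118, 219] [161, 190, 206, 209, 118, 219] := (m m0 h0).sol_done [0, 1, 2, 3, 4, 5] (((m m0 h0).chain_bot (zch_ok m0 h0) (hc.trans (by decide +kernel))).le.trans bot_le) (by decide +kernel)
theorem zn4 : (m m0 h0).Sol [[30]] zCg [206, 209, 118, 219] [206, 209, 118, 219] := (m m0 h0).sol_free (zbdd m0 h0 hb hc) (zcm m0 h0 hb hc) (zot m0 h0 hb hc) ((m m0 h0).excl_zero _ _) (Model.via _ (mR m0 h0) (fun R => freeB R zOT [[30]] zCg [0, 1, 2, 3] [206, 209, 118, 219] [206, 209, 118, 219] [] 190 0 [([], 190, 0)] [[12], [13]] [0, 1] zc25) c25) ((m m0 h0).solL_cons ((m m0 h0).sol_cyc [0] (Bc := [161, 190]) (T := [161, 190]) rfl (Model.via _ (mR m0 h0) (fun R => cycB R (subst [[30]] [0]) [161, 190]) c23) (Model.via _ (mR m0 h0) (fun R => cycB R (subst [[30]] [0]) [161, 190]) c24) (zn5 m0 h0 hb hc)) (m m0 h0).solL_nil)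
theorem zn3 : (m m0 h0).Sol [[30]] zCg [209, 118, 219] [209, 118, 219] := (m m0 h0).sol_free (zbdd m0 h0 hb hc) (zcm m0 h0 hb hc) (zot m0 h0 hb hc) ((m m0 h0).excl_mov (zbdd m0 h0 hb hc) [0] (Model.via _ (mR m0 h0) (fun R => exclB R (subst [[30]] [0]) 206 zD3) c27)) (Model.via _ (mR m0 h0) (fun R => freeB R zOT [[30]] zCg [0, 1, 2] [209, 118, 219] [209, 118, 219] [] 206 zD3 [([], 206, 1)] [[10], [11]] [1] zc28) c28) ((m m0 h0).solL_cons ((m m0 h0).sol_cyc [] (Bc := [206]) (T := [206]) rfl (Model.via _ (mR m0 h0) (fun R => cycB R (subst [[30]] []) [206]) c22) (Model.via _ (mR m0 h0) (fun R => cycB R (subst [[30]] []) [206]) c26) (zn4 m0 h0 hb hc)) (m m0 h0).solL_nil)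
theorem zn2 : (m m0 h0).Sol [[30]] zCg [118, 219] [118, 219] := (m m0 h0).sol_free (zbdd m0 h0 hb hc) (zcm m0 h0 hb hc) (zot m0 h0 hb hc) ((m m0 h0).excl_mov (zbdd m0 h0 hb hc) [0] (Model.via _ (mR m0 h0) (fun R => exclB R (subst [[30]] [0]) 209 zD2) c30)) (Model.via _ (mR m0 h0) (fun R => freeB R zOT [[30]] zCg [0, 1] [118, 219] [118, 219] [] 209 zD2 [([], 209, 2)] [[6], [7], [8], [9]] [0, 2, 0, 2] zc31) c31) ((m m0 h0).solL_cons ((m m0 h0).sol_cyc [] (Bc := [209]) (T := [209]) rfl (Model.via _ (mR m0 h0) (fun R => cycB R (subst [[30]] []) [209]) c21) (Model.via _ (mR m0 h0) (fun R => cycB R (subst [[30]] []) [209]) c29) (zn3 m0 h0 hb hc)) (m m0 h0).solL_nil)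
theorem zn1 : (m m0 h0).Sol [[30]] zCg [219] [219] := (m m0 h0).sol_free (zbdd m0 h0 hb hc) (zcm m0 h0 hb hc) (zot m0 h0 hb hc) ((m m0 h0).excl_mov (zbdd m0 h0 hb hc) [0] (Model.via _ (mR m0 h0) (fun R => exclB R (subst [[30]] [0]) 118 zD1) c33)) (Model.via _ (mR m0 h0) (fun R => freeB R zOT [[30]] zCg [0] [219] [219] [] 118 zD1 [([], 118, 3)] [[4], [5]] [0, 1, 0, 1, 0, 1] zc34) c34) ((m m0 h0).solL_cons ((m m0 h0).sol_cyc [] (Bc := [118]) (T := [118]) rfl (Model.via _ (mR m0 h0) (fun R => cycB R (subst [[30]] []) [118]) c20) (Model.via _ (mR m0 h0) (fun R => cycB R (subst [[30]] []) [118]) c32) (zn2 m0 h0 hb hc)) (m m0 h0).solL_nil)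
theorem zn0 : (m m0 h0).Sol [[30]] zCg [] [] := (m m0 h0).sol_free (zbdd m0 h0 hb hc) (zcm m0 h0 hb hc) (zot m0 h0 hb hc) ((m m0 h0).excl_mov (zbdd m0 h0 hb hc) [0] (Model.via _ (mR m0 h0) (fun R => exclB R (subst [[30]] [0]) 219 zD0) c36)) (Model.via _ (mR m0 h0) (fun R => freeB R zOT [[30]] zCg [] [] [] [] 219 zD0 [([], 219, 4)] [[2], [3]] [0, 1, 0, 1, 0, 1, 0] zc37) c37) ((m m0 h0).solL_cons ((m m0 h0).sol_cyc [] (Bc := [219]) (T := [219]) rfl (Model.via _ (mR m0 h0) (fun R => cycB R (subst [[30]] []) [219]) c19) (Model.via _ (mR m0 h0) (fun R => cycB R (subst [[30]] []) [219]) c35) (zn1 m0 h0 hb hc)) (m m0 h0).solL_nil)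
theorem zsol : (m m0 h0).Sol [[30]] zCg [] [] := zn0 m0 h0 hb hc
theorem oz : orderOf ((m m0 h0).g 30) = 2 := orderOf_eq_prime (by simpa [sq] using (all_take_done (all_take_step (all_take_zero _ [([30, 30], [])]) ((m m0 h0).pairs_of (base m0 h0 hb hc) (Model.via _ (mR m0 h0) (fun R => pairsB R [107, 3, 2, 1, 0] (([([30, 30], [])].drop 0).take 1)) c44))) (by decide +kernel)) _ List.mem_cons_self) (by simpa using ((m m0 h0).ne_of_neB (Model.via _ (mR m0 h0) (fun R => neB R [30] [] 0 101 0) c45)))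
theorem cz : Subgroup.centralizer {(m m0 h0).g 30} = gl (m m0 h0).g [30] ⊔ gen (m m0 h0).g ((lets 6).map (sh 24)) :=
  gl_sh (m m0 h0).g (off := 24) (k := 6) (ks := [24, 25, 26, 27, 28, 29]) (by decide +kernel) ▸ cent_sup ((m m0 h0).cent_le (zsol m0 h0 hb hc)) (by decide +kernel) (all_take_done (all_take_step (all_take_zero _ (cmE 30 (([30] ++ [24, 25, 26, 27, 28, 29]).map fun x => [x]))) ((m m0 h0).pairs_of (base m0 h0 hb hc) (Model.via _ (mR m0 h0) (fun R => pairsB R [107, 3, 2, 1, 0] (((cmE 30 (([30] ++ [24, 25, 26, 27, 28, 29]).map fun x => [x])).drop 0).take 7)) c46))) (by decide +kernel))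
theorem str : ∃ t : G, orderOf t = 2 ∧ Cfsg.IsNonsplitDoubleCover (Subgroup.centralizer {t}) (alternatingGroup (Fin (6 + 2))) :=
  ⟨_, oz m0 h0 hb hc, alt_cov (oz m0 h0 hb hc) (by decide) (cz m0 h0 hb hc) [0, 0, 1, 1, 0, 1, 1, 1, 0, 1, 1, 1, 1, 1, 1, 1, 1, 1, 1, 1, 1] (all_take_done (all_take_step (all_take_zero _ (((altW 6).zip [0, 0, 1, 1, 0, 1, 1, 1, 0, 1, 1, 1, 1, 1, 1, 1, 1, 1, 1, 1, 1]).map fun r => (sh 24 r.1, List.replicate r.2 30))) ((m m0 h0).pairs_of (base m0 h0 hb hc) (Model.via _ (mR m0 h0) (fun R => pairsB R [107, 3, 2, 1, 0] (((((altW 6).zip [0, 0, 1, 1, 0, 1, 1, 1, 0, 1, 1, 1, 1, 1, 1, 1, 1, 1, 1, 1, 1]).map fun r => (sh 24 r.1, List.replicate r.2 30)).drop 0).take 21)) c47))) (by decide +kernel))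
    (by decide +kernel) ((m m0 h0).ne_of_neB (Model.via _ (mR m0 h0) (fun R => neB R [24] [] 0 196 0) c48)) ((m m0 h0).ne_of_neB (Model.via _ (mR m0 h0) (fun R => neB R [24] [30] 0 196 101) c49)) (a := 1) (b := 3) (by decide) ((all_take_done (all_take_step (all_take_zero _ [([25, 27], [30, 27, 25])]) ((m m0 h0).pairs_of (base m0 h0 hb hc) (Model.via _ (mR m0 h0) (fun R => pairsB R [107, 3, 2, 1, 0] (([([25, 27], [30, 27, 25])].drop 0).take 1)) c50))) (by decide +kernel)) _ List.mem_cons_self)⟩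
end H0.EMcLZ
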